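import Mathlib
import Groth.Prelude.Def_W4c3tautjacobianRel

/-! The `sl₂` relation of the operators `E`, `F`. -/

set_option autoImplicit false
set_option linter.unusedSectionVars false
set_option linter.style.haveILetI false
set_option maxHeartbeats 1000000

namespace Groth.Agent.Taut52

open W4c3tautjacobian MvPolynomial

variable (g : ℕ)

/-- integral bidegree of a variable -/
def wz (v : Var g) : ℤ × ℤ := (((wt g v).1 : ℤ), ((wt g v).2 : ℤ))

/-- homogeneity -/
def Hom (d : ℤ × ℤ) (P : RelRing g) : Prop := P.IsWeightedHomogeneous (wz g) d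

theorem weight_wz (m : Var g →₀ ℕ) :
    Finsupp.weight (wz g) m = (((Finsupp.weight (wt g) m).1 : ℤ), ((Finsupp.weight (wt g) m).2 : ℤ)) := by
  simp only [Finsupp.weight_apply, Finsupp.sum]
  refine Prod.ext ?_ ?_ <;> simp [Prod.fst_sum, Prod.snd_sum, wz]

theorem hom_of_nat {P : RelRing g} {i n : ℕ} (h : P.IsWeightedHomogeneous (wt g) ((i, n) : ℕ × ℕ)) :
    Hom g ((i : ℤ), (n : ℤ)) P := fun m hm => by rw [weight_wz, h hm]

theorem Hom.eq_zero_of_neg {d : ℤ × ℤ} {P : RelRing g} (h : Hom g d P) (hd : d.1 < 0 ∨ d.2 < 0) : P = 0 := by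
  ext m
  rw [coeff_zero]
  by_contra hm
  have := h hm
  rw [weight_wz] at this
  subst this
  simp only at hd
  omega

theorem hom_xv (i j : ℤ) : Hom g (i, j) (xv g i j) := by
  unfold xv
  split_ifs with h h'
  · obtain ⟨rfl, rfl⟩ := h
    rw [← map_natCast (C : ℚ →+* RelRing g)]
    exact isWeightedHomogeneous_C _ _
  · have : Hom g _ (X (some ⟨(i.toNat, j.toNat), h'.2.2⟩) : RelRing g) := isWeightedHomogeneous_X ℚ (wz g) _
    simpa [wz, wt, Int.toNat_of_nonneg h'.1, Int.toNat_of_nonneg h'.2.1] using this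
  · exact isWeightedHomogeneous_zero _ _ _

theorem hom_dv (p : ℕ × ℕ) {d : ℤ × ℤ} {P : RelRing g} (h : Hom g d P) :
    Hom g (d.1 - p.1, d.2 - p.2) (dv g p P) := by
  unfold dv
  split_ifs with hp
  · exact IsWeightedHomogeneous.pderiv h (by simp [wz, wt, Prod.ext_iff])
  · exact isWeightedHomogeneous_zero _ _ _

theorem hom_C_mul (c : ℚ) {d : ℤ × ℤ} {P : RelRing g} (h : Hom g d P) : Hom g d (C c * P) := by
  have := (isWeightedHomogeneous_C (wz g) c).mul h
  rwa [zero_add] at this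

theorem hom_F {i n : ℤ} {P : RelRing g} (h : Hom g (i, n) P) : Hom g (i - 2, n) (F g P) := by
  unfold F
  refine IsWeightedHomogeneous.add ?_ ?_
  · rw [smul_eq_C_mul]
    refine hom_C_mul g _ (IsWeightedHomogeneous.sum _ _ _ fun p _ => IsWeightedHomogeneous.sum _ _ _ fun q _ => ?_)
    have h2 := hom_dv g p (hom_dv g q h)
    rw [sub_mul, sub_eq_add_neg, ← neg_mul, ← neg_mul, ← map_natCast (C : ℚ →+* RelRing g), ← map_neg]
    refine IsWeightedHomogeneous.add ?_ ?_
    · have hy : Hom g ((0 : ℤ), 2) (X none : RelRing g) := isWeightedHomogeneous_X ℚ (wz g) none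
      convert ((hy.mul (hom_xv g ((p.1 : ℤ) - 1) ((p.2 : ℤ) - 1))).mul
        (hom_xv g ((q.1 : ℤ) - 1) ((q.2 : ℤ) - 1))).mul h2 using 1
      simp only [Prod.mk_add_mk, Prod.ext_iff]; omega
    · convert (hom_C_mul g (-(mergeCoeff p.1 q.1 : ℕ) : ℚ)
        (hom_xv g ((p.1 : ℤ) + q.1 - 2) ((p.2 : ℤ) + q.2))).mul h2 using 1
      simp only [Prod.mk_add_mk, Prod.ext_iff]; omega
  · refine IsWeightedHomogeneous.sum _ _ _ fun p _ => ?_
    convert (hom_xv g ((p.1 : ℤ) - 2) (p.2 : ℤ)).mul (hom_dv g p h) using 1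
    simp only [Prod.mk_add_mk, Prod.ext_iff]; omega

theorem hom_E {i n : ℤ} {P : RelRing g} (h : Hom g (i, n) P) : Hom g (i + 2, n) (E g P) := by
  have := (hom_xv g 2 0).mul h
  rw [Prod.mk_add_mk, zero_add, add_comm 2 i] at this
  exact this

theorem hom_iterate_E {i n : ℤ} {P : RelRing g} (h : Hom g (i, n) P) (m : ℕ) :
    Hom g (i + 2 * m, n) ((E g)^[m] P) := by
  induction m with
  | zero => simpa using h
  | succ m ih =>
    rw [Function.iterate_succ_apply']
    convert hom_E g ih using 2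
    push_cast; ring

theorem hom_iterate_F {i n : ℤ} {P : RelRing g} (h : Hom g (i, n) P) (m : ℕ) :
    Hom g (i - 2 * m, n) ((F g)^[m] P) := by
  induction m with
  | zero => simpa using h
  | succ m ih =>
    rw [Function.iterate_succ_apply']
    convert hom_F g ih using 2
    push_cast; ring

theorem dv_add (p : ℕ × ℕ) (P Q : RelRing g) : dv g p (P + Q) = dv g p P + dv g p Q := by
  unfold dv; split_ifs <;> simp

theorem dv_C_mul (p : ℕ × ℕ) (c : ℚ) (P : RelRing g) : dv g p (C c * P) = C c * dv g p P := by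
  unfold dv; split_ifs <;> simp [pderiv_C_mul]

theorem F_def (Q : RelRing g) : F g Q = C (1 / 2 : ℚ) * (∑ p ∈ idx g, ∑ q ∈ idx g,
      (X none * xv g ((p.1 : ℤ) - 1) ((p.2 : ℤ) - 1) * xv g ((q.1 : ℤ) - 1) ((q.2 : ℤ) - 1)
        - (mergeCoeff p.1 q.1 : RelRing g) * xv g ((p.1 : ℤ) + q.1 - 2) ((p.2 : ℤ) + q.2)) * dv g p (dv g q Q))
      + ∑ p ∈ idx g, xv g ((p.1 : ℤ) - 2) (p.2 : ℤ) * dv g p Q := by
  rw [F, smul_eq_C_mul]

theorem F_add (P Q : RelRing g) : F g (P + Q) = F g P + F g Q := by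
  simp only [F, dv_add, mul_add, Finset.sum_add_distrib, smul_add]; abel

theorem F_C_mul (c : ℚ) (P : RelRing g) : F g (C c * P) = C c * F g P := by
  rw [F_def, F_def, mul_add, Finset.mul_sum, Finset.mul_sum, Finset.mul_sum, Finset.mul_sum]
  congr 1
  · refine Finset.sum_congr rfl fun p _ => ?_
    rw [Finset.mul_sum, Finset.mul_sum, Finset.mul_sum]
    refine Finset.sum_congr rfl fun q _ => ?_
    rw [dv_C_mul, dv_C_mul]; ring
  · refine Finset.sum_congr rfl fun p _ => ?_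
    rw [dv_C_mul]; ring

/-- `F` as a linear map -/
noncomputable def Fl : RelRing g →ₗ[ℚ] RelRing g where
  toFun := F g
  map_add' := F_add g
  map_smul' c P := by simp only [smul_eq_C_mul, F_C_mul, RingHom.id_apply]

theorem Fl_apply (P : RelRing g) : Fl g P = F g P := rfl

theorem valid_mem_idx {p : ℕ × ℕ} (h : Valid g p) : p ∈ idx g := by
  obtain ⟨h1, h2, _, _⟩ := h
  simp [idx, Finset.mem_product]
  omega

instance : Finite {p : ℕ × ℕ // Valid g p} :=
  Finite.of_injective (fun p => (⟨p.1, valid_mem_idx g p.2⟩ : idx g))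
    fun a b h => Subtype.ext (congrArg (fun x : idx g => x.1) h)

theorem sum_idx_eq [Fintype {p : ℕ × ℕ // Valid g p}] (G : ℕ × ℕ → RelRing g) (h0 : ∀ p, ¬ Valid g p → G p = 0) :
    ∑ p ∈ idx g, G p = ∑ v : {p : ℕ × ℕ // Valid g p}, G v.1 := by
  rw [← Finset.sum_filter_of_ne (p := Valid g) fun p _ hp => not_not.1 fun hv => hp (h0 p hv)]
  refine Finset.sum_subtype _ (fun p => ?_) G
  simp only [Finset.mem_filter]
  exact ⟨And.right, fun h => ⟨valid_mem_idx g h, h⟩⟩

theorem euler {i n : ℕ} {P : RelRing g} (h : Hom g ((i : ℤ), (n : ℤ)) P) :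
    ∑ p ∈ idx g, (p.1 : RelRing g) * (xv g p.1 p.2 * dv g p P) = (i : RelRing g) * P := by
  classical
  haveI := Fintype.ofFinite {p : ℕ × ℕ // Valid g p}
  have h1 : P.IsWeightedHomogeneous (fun v => (wt g v).1) i := fun m hm => by
    have := h hm
    rw [weight_wz, Prod.ext_iff] at this
    have h3 : (Finsupp.weight (wt g) m).1 = i := by simpa using this.1
    rw [← h3, Finsupp.weight_apply, Finsupp.weight_apply, Finsupp.sum, Finsupp.sum, Prod.fst_sum]
    rfl
  have he := h1.sum_weight_X_mul_pderiv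
  rw [Fintype.sum_option] at he
  simp only [wt, zero_smul, zero_add, nsmul_eq_mul] at he
  rw [sum_idx_eq g _ fun p hp => by simp [dv, hp]]
  refine Eq.trans (Finset.sum_congr rfl fun v _ => ?_) he
  by_cases h0 : v.1.1 = 0
  · simp [h0]
  · rw [dv, dif_pos v.2, xv, if_neg (by omega), dif_pos ⟨by omega, by omega, by simpa using v.2⟩]
    simp

theorem mergeCoeff_two (k : ℕ) : mergeCoeff 2 k = k := by
  rcases Nat.eq_zero_or_pos k with rfl | hk
  · simp [mergeCoeff]
  · rw [mergeCoeff, if_neg (by omega), show 2 + k - 2 = k by omega]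
    exact Nat.choose_one_right k

theorem mergeCoeff_comm (i k : ℕ) : mergeCoeff i k = mergeCoeff k i := by
  unfold mergeCoeff
  by_cases h : i = 0 ∨ k = 0
  · rw [if_pos h, if_pos h.symm]
  · rw [if_neg h, if_neg (fun h' => h h'.symm), add_comm k i]
    push Not at h
    exact Nat.choose_symm_of_eq_add (by omega)

theorem xv_eq_zero_of_neg {i j : ℤ} (h : i < 0 ∨ j < 0) : xv g i j = 0 := by
  unfold xv
  rw [if_neg (by omega), dif_neg (by rintro ⟨h1, h2, -⟩; omega)]

theorem valid20 (hg : 1 ≤ g) : Valid g (2, 0) := ⟨by simp, by simp; omega, by decide, by simp⟩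

theorem xv20 (hg : 1 ≤ g) : xv g 2 0 = X (some ⟨(2, 0), valid20 g hg⟩) := by
  unfold xv
  rw [if_neg (by omega), dif_pos ⟨by omega, by omega, valid20 g hg⟩]
  rfl

theorem dv_E (hg : 1 ≤ g) (p : ℕ × ℕ) (P : RelRing g) :
    dv g p (E g P) = (if p = (2, 0) then P else 0) + E g (dv g p P) := by
  rw [E, E, xv20 g hg]
  unfold dv
  by_cases hp : Valid g p
  · rw [dif_pos hp, dif_pos hp, pderiv_mul]
    congr 1
    split_ifs with h
    · subst h; rw [pderiv_X_self, one_mul]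
    · rw [pderiv_X_of_ne (fun he => h (congrArg Subtype.val (Option.some_injective _ he)).symm), zero_mul]
  · rw [dif_neg hp, dif_neg hp, if_neg (by rintro rfl; exact hp (valid20 g hg)), mul_zero, zero_add]

theorem comm_F_E (hg : 1 ≤ g) {i n : ℤ} {P : RelRing g} (h : Hom g (i, n) P) :
    F g (E g P) = E g (F g P) + C ((g : ℚ) - i) * P := by
  by_cases hneg : i < 0 ∨ n < 0
  · rw [h.eq_zero_of_neg g hneg, E, mul_zero, ← Fl_apply, map_zero, E, mul_zero, mul_zero, add_zero]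
  obtain ⟨i, rfl⟩ : ∃ a : ℕ, i = a := ⟨i.toNat, by omega⟩
  obtain ⟨n, rfl⟩ : ∃ a : ℕ, n = a := ⟨n.toNat, by omega⟩
  set c : (ℕ × ℕ) → (ℕ × ℕ) → RelRing g := fun p q => X none * xv g ((p.1 : ℤ) - 1) ((p.2 : ℤ) - 1)
          * xv g ((q.1 : ℤ) - 1) ((q.2 : ℤ) - 1)
        - (mergeCoeff p.1 q.1 : RelRing g) * xv g ((p.1 : ℤ) + q.1 - 2) ((p.2 : ℤ) + q.2) with hc
  have hsymm : ∀ p q, c p q = c q p := fun p q => by
    simp only [hc, mergeCoeff_comm p.1 q.1, add_comm (p.1 : ℤ) q.1, add_comm (p.2 : ℤ) q.2]; ring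
  have hc20 : ∀ q : ℕ × ℕ, c (2, 0) q = - ((q.1 : RelRing g) * xv g q.1 q.2) := fun q => by
    simp only [hc, mergeCoeff_two]
    rw [xv_eq_zero_of_neg g (i := ((2 : ℕ) : ℤ) - 1) (j := ((0 : ℕ) : ℤ) - 1) (by omega)]
    simp
  have h20 : (2, 0) ∈ idx g := valid_mem_idx g (valid20 g hg)
  have hdd : ∀ p q, dv g p (dv g q (E g P)) = (if q = (2, 0) then dv g p P else 0)
      + (if p = (2, 0) then dv g q P else 0) + E g (dv g p (dv g q P)) := fun p q => by
    rw [dv_E g hg q, dv_add, dv_E g hg p]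
    by_cases hq : q = (2, 0)
    · rw [if_pos hq, if_pos hq]; abel
    · rw [if_neg hq, if_neg hq, show dv g p 0 = 0 by unfold dv; split_ifs <;> simp]; abel
  have hF : ∀ Q, F g Q = C (1 / 2 : ℚ) * (∑ p ∈ idx g, ∑ q ∈ idx g, c p q * dv g p (dv g q Q))
      + ∑ p ∈ idx g, xv g ((p.1 : ℤ) - 2) (p.2 : ℤ) * dv g p Q := fun Q => by
    simp only [F, smul_eq_C_mul, hc]
  have hx00 : xv g (((2 : ℕ) : ℤ) - 2) ((0 : ℕ) : ℤ) = C (g : ℚ) := by
    simp [xv]
  rw [hF, hF]
  simp only [hdd]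
  simp only [dv_E g hg, mul_add, mul_ite, mul_zero, Finset.sum_add_distrib, Finset.sum_ite_eq', h20, if_true]
  simp only [Finset.sum_comm (f := fun p q => if p = (2, 0) then c p q * dv g q P else 0)]
  simp only [Finset.sum_ite_eq', h20, if_true, hsymm _ (2, 0), hc20, hx00]
  have he : ∑ q ∈ idx g, -((q.1 : RelRing g) * xv g q.1 q.2) * dv g q P = - ((i : RelRing g) * P) := by
    rw [← euler g h, ← Finset.sum_neg_distrib]
    exact Finset.sum_congr rfl fun q _ => by ring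
  rw [he]
  simp only [E, Finset.mul_sum, map_sub, map_natCast, Int.cast_natCast]
  have h2 : C (1 / 2 : ℚ) + C (1 / 2 : ℚ) = (1 : RelRing g) := by
    rw [← map_add]; norm_num
  have e1 : ∀ p : ℕ × ℕ, ∑ q ∈ idx g, C (1 / 2 : ℚ) * (c p q * (xv g 2 0 * dv g p (dv g q P))) =
      ∑ q ∈ idx g, xv g 2 0 * (C (1 / 2 : ℚ) * (c p q * dv g p (dv g q P))) := fun p =>
    Finset.sum_congr rfl fun q _ => by ring
  have e2 : ∑ p ∈ idx g, xv g ((p.1 : ℤ) - 2) (p.2 : ℤ) * (xv g 2 0 * dv g p P) =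
      ∑ p ∈ idx g, xv g 2 0 * (xv g ((p.1 : ℤ) - 2) (p.2 : ℤ) * dv g p P) :=
    Finset.sum_congr rfl fun q _ => by ring
  simp only [e1, e2, ← Finset.mul_sum]
  linear_combination (-(i : RelRing g) * P) * h2

theorem iterate_F_E (hg : 1 ≤ g) {i n : ℤ} {P : RelRing g} (h : Hom g (i, n) P) (m : ℕ) :
    (F g)^[m + 1] (E g P) = E g ((F g)^[m + 1] P) + C (((m : ℚ) + 1) * ((g : ℚ) - i + m)) * (F g)^[m] P := by
  induction m with
  | zero => simp [comm_F_E g hg h]
  | succ m ih =>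
    rw [Function.iterate_succ_apply', ih, F_add, F_C_mul, comm_F_E g hg (hom_iterate_F g h (m + 1)),
      ← Function.iterate_succ_apply' (F g) (m + 1), ← Function.iterate_succ_apply' (F g) m, add_assoc, ← add_mul, ← map_add]
    congr 3
    push_cast; ring

theorem iterate_F_eq_zero_of_neg {i n : ℤ} {P : RelRing g} (h : Hom g (i, n) P) {m : ℕ} (hm : i < 2 * m) :
    (F g)^[m] P = 0 :=
  (hom_iterate_F g h m).eq_zero_of_neg g (Or.inl (by simp only; omega))

/-- iterated vanishing -/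
theorem vanish (hg : 1 ≤ g) (e : ℕ) : ∀ (i n : ℤ) (γ : RelRing g), Hom g (i, n) γ → i = 2 * g →
    (F g)^[g + 1 + e] ((E g)^[e + 1] γ) = 0 := by
  induction e with
  | zero =>
    intro i n γ h hi
    rw [Function.iterate_one, iterate_F_E g hg h, iterate_F_eq_zero_of_neg g h (by omega), E, mul_zero, zero_add, hi]
    have : ((g : ℚ) + 1) * ((g : ℚ) - ((2 * (g : ℤ) : ℤ) : ℚ) + g) = 0 := by push_cast; ring
    rw [this, map_zero, zero_mul]
  | succ e ih =>
    intro i n γ h hi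
    rw [Function.iterate_succ_apply' (E g) (e + 1)]
    have h' := hom_iterate_E g h (e + 1)
    rw [show g + 1 + (e + 1) = g + 1 + e + 1 by omega, iterate_F_E g hg h', ih i n γ h hi, mul_zero, add_zero,
      iterate_F_eq_zero_of_neg g h' (by push_cast; omega), E, mul_zero]

end Groth.Agent.Taut52
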