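import Groth.Agent.Taut52.Basic

/-! Sign behaviour of `F` modulo `y`. -/

set_option autoImplicit false
set_option linter.unusedSectionVars false
set_option maxHeartbeats 1000000

namespace Groth.Agent.Taut52

open W4c3tautjacobian MvPolynomial

variable (g : ℕ)

/-- no `y`, no variable of second degree zero -/
def Good (d : Var g →₀ ℕ) : Prop := d none = 0 ∧ ∀ p : {p : ℕ × ℕ // Valid g p}, d (some p) ≠ 0 → p.1.2 ≠ 0

/-- signed monomial -/
noncomputable def smon (d : Var g →₀ ℕ) : RelRing g := monomial d ((-1) ^ d.degree)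

/-- nonnegative combinations of good signed monomials, modulo `y` -/
noncomputable def cone : AddSubmonoid (RelRing g) :=
  AddSubmonoid.closure ({P | ∃ r : ℚ, 0 ≤ r ∧ ∃ d, Good g d ∧ P = C r * smon g d} ∪ {P | ∃ Q, P = X none * Q})

theorem y_mem (Q : RelRing g) : X none * Q ∈ cone g := AddSubmonoid.subset_closure (Or.inr ⟨Q, rfl⟩)

theorem smon_mem {r : ℚ} (hr : 0 ≤ r) {d : Var g →₀ ℕ} (hd : Good g d) : C r * smon g d ∈ cone g :=
  AddSubmonoid.subset_closure (Or.inl ⟨r, hr, d, hd, rfl⟩)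

theorem C_mul_mem {c : ℚ} (hc : 0 ≤ c) {P : RelRing g} (hP : P ∈ cone g) : C c * P ∈ cone g := by
  induction hP using AddSubmonoid.closure_induction with
  | mem x hx =>
    rcases hx with ⟨r, hr, d, hd, rfl⟩ | ⟨Q, rfl⟩
    · rw [← mul_assoc, ← map_mul]; exact smon_mem g (mul_nonneg hc hr) hd
    · rw [mul_left_comm]; exact y_mem g _
  | zero => rw [mul_zero]; exact zero_mem _
  | add x y _ _ hx hy => rw [mul_add]; exact add_mem hx hy

/-- the contribution of a pair of variables -/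
noncomputable def term (p q : ℕ × ℕ) (P : RelRing g) : RelRing g :=
  (X none * xv g ((p.1 : ℤ) - 1) ((p.2 : ℤ) - 1) * xv g ((q.1 : ℤ) - 1) ((q.2 : ℤ) - 1)
        - (mergeCoeff p.1 q.1 : RelRing g) * xv g ((p.1 : ℤ) + q.1 - 2) ((p.2 : ℤ) + q.2)) * dv g p (dv g q P)

/-- the contribution of one variable -/
noncomputable def term1 (p : ℕ × ℕ) (P : RelRing g) : RelRing g :=
  xv g ((p.1 : ℤ) - 2) (p.2 : ℤ) * dv g p P

theorem F_eq (P : RelRing g) :
    F g P = C (1 / 2 : ℚ) * (∑ p ∈ idx g, ∑ q ∈ idx g, term g p q P) + ∑ p ∈ idx g, term1 g p P :=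
  F_def g P

theorem dv_monomial {p : ℕ × ℕ} (hp : Valid g p) (d : Var g →₀ ℕ) (a : ℚ) :
    dv g p (monomial d a) = monomial (d - Finsupp.single (some ⟨p, hp⟩) 1) (a * (d (some ⟨p, hp⟩) : ℕ)) := by
  rw [dv, dif_pos hp, pderiv_monomial]

theorem xv_nat {a b : ℕ} (h : Valid g (a, b)) : xv g (a : ℤ) (b : ℤ) = X (some ⟨(a, b), h⟩) := by
  unfold xv
  rw [if_neg (by
    rintro ⟨h1, h2⟩
    have h' := h.2.2.2
    simp only [ne_eq, Prod.mk.injEq, not_and] at h'
    exact h' (by omega) (by omega)), dif_pos ⟨by omega, by omega, by simpa using h⟩]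
  simp

theorem xv_nat_of_not {a b : ℕ} (h0 : ¬ ((a : ℤ) = 0 ∧ (b : ℤ) = 0)) (h : ¬ Valid g (a, b)) :
    xv g (a : ℤ) (b : ℤ) = 0 := by
  unfold xv
  rw [if_neg h0, dif_neg (fun h' => h (by simpa using h'.2.2))]

theorem good_sub {d : Var g →₀ ℕ} (hd : Good g d) (e : Var g →₀ ℕ) : Good g (d - e) :=
  ⟨by rw [Finsupp.tsub_apply, hd.1, zero_tsub], fun p hp => hd.2 p fun h => hp (by rw [Finsupp.tsub_apply, h, zero_tsub])⟩

theorem good_add_single {d : Var g →₀ ℕ} (hd : Good g d) {p : {p : ℕ × ℕ // Valid g p}} (hp : p.1.2 ≠ 0) :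
    Good g (d + Finsupp.single (some p) 1) := by
  refine ⟨by simp [hd.1], fun q hq => ?_⟩
  by_cases h : q = p
  · exact h ▸ hp
  · refine hd.2 q ?_
    simpa [Finsupp.single_apply, Option.some.injEq, Ne.symm h] using hq

theorem degree_sub_single {d : Var g →₀ ℕ} {v : Var g} (h : d v ≠ 0) :
    (d - Finsupp.single v 1).degree + 1 = d.degree := by
  conv_rhs => rw [show d = (d - Finsupp.single v 1) + Finsupp.single v 1 from
    (tsub_add_cancel_of_le (Finsupp.single_le_iff.2 (by omega))).symm]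
  rw [map_add, Finsupp.degree_single]

/-- removing two variables and inserting the merged one -/
theorem term_eq {p q : ℕ × ℕ} (hp : Valid g p) (hq : Valid g q) (hv : Valid g (p.1 + q.1 - 2, p.2 + q.2))
    (h2 : 2 ≤ p.1 + q.1) {d : Var g →₀ ℕ} :
    let d₁ := d - Finsupp.single (some ⟨q, hq⟩) 1
    let d₂ := d₁ - Finsupp.single (some ⟨p, hp⟩) 1 + Finsupp.single (some ⟨_, hv⟩) 1
    d (some ⟨q, hq⟩) ≠ 0 → d₁ (some ⟨p, hp⟩) ≠ 0 →
    term g p q (smon g d) =
      X none * (xv g ((p.1 : ℤ) - 1) ((p.2 : ℤ) - 1) * xv g ((q.1 : ℤ) - 1) ((q.2 : ℤ) - 1) * dv g p (dv g q (smon g d))) +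
      C ((mergeCoeff p.1 q.1 : ℚ) * (d (some ⟨q, hq⟩) : ℕ) * (d₁ (some ⟨p, hp⟩) : ℕ)) * smon g d₂ := by
  intro d₁ d₂ hne hne'
  have hdd : dv g p (dv g q (smon g d)) =
      monomial (d₁ - Finsupp.single (some ⟨p, hp⟩) 1) (((-1 : ℚ) ^ d.degree) * (d (some ⟨q, hq⟩) : ℕ) * (d₁ (some ⟨p, hp⟩) : ℕ)) := by
    rw [smon, dv_monomial g hq, dv_monomial g hp]
  have hxv : xv g ((p.1 : ℤ) + q.1 - 2) ((p.2 : ℤ) + q.2) = X (some ⟨_, hv⟩) := by
    rw [← xv_nat g hv]; congr 1 <;> push_cast [Nat.cast_sub h2] <;> ring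
  rw [term, hxv, sub_mul, sub_eq_add_neg, ← mul_assoc (X none), ← mul_assoc (X none)]
  congr 1
  rw [hdd, smon, ← map_natCast (C : ℚ →+* RelRing g), X, C_mul_monomial, C_mul_monomial, monomial_mul, ← map_neg,
    add_comm (Finsupp.single _ 1)]
  congr 1
  have hdeg : d₂.degree + 1 = d.degree := by
    rw [map_add, Finsupp.degree_single, degree_sub_single g hne', degree_sub_single g hne]
  rw [← hdeg, pow_succ]
  ring

theorem term_mem (p q : ℕ × ℕ) {d : Var g →₀ ℕ} (hd : Good g d) : term g p q (smon g d) ∈ cone g := by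
  by_cases hq : Valid g q
  swap
  · rw [term, show dv g q (smon g d) = 0 by simp [dv, hq], show dv g p 0 = 0 by unfold dv; split_ifs <;> simp, mul_zero]
    exact zero_mem _
  by_cases hp : Valid g p
  swap
  · rw [term, show dv g p (dv g q (smon g d)) = 0 by rw [dv, dif_neg hp], mul_zero]
    exact zero_mem _
  set d₁ := d - Finsupp.single (some ⟨q, hq⟩) 1 with hd₁
  by_cases h0 : d (some ⟨q, hq⟩) = 0 ∨ d₁ (some ⟨p, hp⟩) = 0
  · rw [term, smon, dv_monomial g hq, dv_monomial g hp]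
    rcases h0 with h0 | h0
    · rw [h0, Nat.cast_zero, mul_zero, zero_mul, monomial_zero, mul_zero]; exact zero_mem _
    · rw [h0, Nat.cast_zero, mul_zero, monomial_zero, mul_zero]; exact zero_mem _
  push Not at h0
  have hp2 : p.2 ≠ 0 := (good_sub g hd _).2 ⟨p, hp⟩ h0.2
  by_cases hm : mergeCoeff p.1 q.1 = 0
  · rw [term, hm, Nat.cast_zero, zero_mul, sub_zero, mul_assoc (X none), mul_assoc (X none)]
    exact y_mem g _
  have h2 : 2 ≤ p.1 + q.1 := by
    by_contra h
    exact hm (by rw [mergeCoeff, if_pos (by omega)])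
  by_cases hv : Valid g (p.1 + q.1 - 2, p.2 + q.2)
  · rw [term_eq g hp hq hv h2 h0.1 h0.2]
    exact add_mem (y_mem g _) (smon_mem g (mul_nonneg (mul_nonneg (Nat.cast_nonneg _) (Nat.cast_nonneg _)) (Nat.cast_nonneg _))
      (good_add_single g (good_sub g (good_sub g hd _) _) (by simp only; omega)))
  · have : xv g ((p.1 : ℤ) + q.1 - 2) ((p.2 : ℤ) + q.2) = 0 := by
      rw [← xv_nat_of_not g (by omega) hv]; congr 1 <;> push_cast [Nat.cast_sub h2] <;> ring
    rw [term, this, mul_zero, sub_zero, mul_assoc (X none), mul_assoc (X none)]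
    exact y_mem g _

theorem term1_eq {p : ℕ × ℕ} (hp : Valid g p) (hv : Valid g (p.1 - 2, p.2)) (h2 : 2 ≤ p.1) {d : Var g →₀ ℕ} :
    let d₂ := d - Finsupp.single (some ⟨p, hp⟩) 1 + Finsupp.single (some ⟨_, hv⟩) 1
    d (some ⟨p, hp⟩) ≠ 0 → term1 g p (smon g d) = C (d (some ⟨p, hp⟩) : ℚ) * smon g d₂ := by
  intro d₂ hne
  have hdeg : d₂.degree = d.degree := by
    rw [map_add, Finsupp.degree_single, degree_sub_single g hne]
  rw [term1, smon, dv_monomial g hp, smon, hdeg, show (p.1 : ℤ) - 2 = ((p.1 - 2 : ℕ) : ℤ) by omega, xv_nat g hv, X,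
    monomial_mul, C_mul_monomial, one_mul, add_comm (Finsupp.single _ 1), mul_comm]

theorem term1_mem (p : ℕ × ℕ) {d : Var g →₀ ℕ} (hd : Good g d) : term1 g p (smon g d) ∈ cone g := by
  by_cases hp : Valid g p
  swap
  · rw [term1, dv, dif_neg hp, mul_zero]; exact zero_mem _
  by_cases h0 : d (some ⟨p, hp⟩) = 0
  · rw [term1, smon, dv_monomial g hp, h0, Nat.cast_zero, mul_zero, monomial_zero, mul_zero]; exact zero_mem _
  have hp2 : p.2 ≠ 0 := hd.2 ⟨p, hp⟩ h0
  by_cases h2 : 2 ≤ p.1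
  · by_cases hv : Valid g (p.1 - 2, p.2)
    · rw [term1_eq g hp hv h2 h0]
      exact smon_mem g (Nat.cast_nonneg _) (good_add_single g (good_sub g hd _) hp2)
    · rw [term1, show (p.1 : ℤ) - 2 = ((p.1 - 2 : ℕ) : ℤ) by omega, xv_nat_of_not g (by omega) hv, zero_mul]
      exact zero_mem _
  · rw [term1, xv_eq_zero_of_neg g (by omega), zero_mul]; exact zero_mem _

theorem F_y_mul (Q : RelRing g) : F g (X none * Q) = X none * F g Q := by
  have h : ∀ p P, dv g p (X none * P) = X none * dv g p P := fun p P => by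
    unfold dv; split_ifs <;> simp [pderiv_mul, pderiv_X_of_ne]
  rw [F_eq, F_eq, mul_add, Finset.mul_sum, Finset.mul_sum, Finset.mul_sum, Finset.mul_sum]
  congr 1
  · refine Finset.sum_congr rfl fun p _ => ?_
    rw [Finset.mul_sum, Finset.mul_sum, Finset.mul_sum]
    refine Finset.sum_congr rfl fun q _ => ?_
    rw [term, term, h, h]; ring
  · refine Finset.sum_congr rfl fun p _ => ?_
    rw [term1, term1, h]; ring

theorem F_smon_mem {d : Var g →₀ ℕ} (hd : Good g d) : F g (smon g d) ∈ cone g := by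
  rw [F_eq]
  exact add_mem (C_mul_mem g (by norm_num) (sum_mem fun p _ => sum_mem fun q _ => term_mem g p q hd))
    (sum_mem fun p _ => term1_mem g p hd)

theorem F_mem {P : RelRing g} (hP : P ∈ cone g) : F g P ∈ cone g := by
  induction hP using AddSubmonoid.closure_induction with
  | mem x hx =>
    rcases hx with ⟨r, hr, d, hd, rfl⟩ | ⟨Q, rfl⟩
    · rw [F_C_mul]; exact C_mul_mem g hr (F_smon_mem g hd)
    · rw [F_y_mul]; exact y_mem g _
  | zero => rw [← Fl_apply, map_zero]; exact zero_mem _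
  | add x y _ _ hx hy => rw [F_add]; exact add_mem hx hy

/-- `P` dominates a positive multiple of the signed monomial -/
def Above (d : Var g →₀ ℕ) (P : RelRing g) : Prop :=
  ∃ r : ℚ, 0 < r ∧ ∃ R ∈ cone g, P = C r * smon g d + R

theorem Above.F_step {d d' : Var g →₀ ℕ} {P : RelRing g} (h : Above g d P) (h' : Above g d' (F g (smon g d))) :
    Above g d' (F g P) := by
  obtain ⟨r, hr, R, hR, rfl⟩ := h
  obtain ⟨s, hs, S, hS, he⟩ := h'
  refine ⟨r * s, mul_pos hr hs, C r * S + F g R, add_mem (C_mul_mem g hr.le hS) (F_mem g hR), ?_⟩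
  rw [F_add, F_C_mul, he, map_mul]; ring

theorem above_merge {p q : ℕ × ℕ} (hp : Valid g p) (hq : Valid g q) (hv : Valid g (p.1 + q.1 - 2, p.2 + q.2))
    (h2 : 2 ≤ p.1 + q.1) (hm : mergeCoeff p.1 q.1 ≠ 0) {d : Var g →₀ ℕ} (hd : Good g d) :
    let d₁ := d - Finsupp.single (some ⟨q, hq⟩) 1
    let d₂ := d₁ - Finsupp.single (some ⟨p, hp⟩) 1 + Finsupp.single (some ⟨_, hv⟩) 1
    d (some ⟨q, hq⟩) ≠ 0 → d₁ (some ⟨p, hp⟩) ≠ 0 → Above g d₂ (F g (smon g d)) := by
  intro d₁ d₂ hne hne'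
  classical
  set c : ℚ := (mergeCoeff p.1 q.1 : ℚ) * (d (some ⟨q, hq⟩) : ℕ) * (d₁ (some ⟨p, hp⟩) : ℕ) with hc
  have hcpos : 0 < c := mul_pos (mul_pos (by exact_mod_cast Nat.pos_of_ne_zero hm) (by exact_mod_cast Nat.pos_of_ne_zero hne))
    (by exact_mod_cast Nat.pos_of_ne_zero hne')
  refine ⟨1 / 2 * c, mul_pos (by norm_num) hcpos, ?_, ?_, ?_⟩
  · exact C (1 / 2 : ℚ) * (X none * (xv g ((p.1 : ℤ) - 1) ((p.2 : ℤ) - 1) * xv g ((q.1 : ℤ) - 1) ((q.2 : ℤ) - 1) * dv g p (dv g q (smon g d))) +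
      ∑ q' ∈ (idx g).erase q, term g p q' (smon g d) + ∑ p' ∈ (idx g).erase p, ∑ q' ∈ idx g, term g p' q' (smon g d))
      + ∑ p' ∈ idx g, term1 g p' (smon g d)
  · exact add_mem (C_mul_mem g (by norm_num) (add_mem (add_mem (y_mem g _) (sum_mem fun q' _ => term_mem g p q' hd))
      (sum_mem fun p' _ => sum_mem fun q' _ => term_mem g p' q' hd))) (sum_mem fun p' _ => term1_mem g p' hd)
  · rw [F_eq, ← Finset.add_sum_erase _ _ (valid_mem_idx g hp), ← Finset.add_sum_erase _ _ (valid_mem_idx g hq),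
      term_eq g hp hq hv h2 hne hne']
    simp only [hc, map_mul, d₂, d₁]
    ring

theorem above_shift {p : ℕ × ℕ} (hp : Valid g p) (hv : Valid g (p.1 - 2, p.2)) (h2 : 2 ≤ p.1)
    {d : Var g →₀ ℕ} (hd : Good g d) :
    let d₂ := d - Finsupp.single (some ⟨p, hp⟩) 1 + Finsupp.single (some ⟨_, hv⟩) 1
    d (some ⟨p, hp⟩) ≠ 0 → Above g d₂ (F g (smon g d)) := by
  intro d₂ hne
  classical
  refine ⟨(d (some ⟨p, hp⟩) : ℚ), by exact_mod_cast Nat.pos_of_ne_zero hne, ?_, ?_, ?_⟩
  · exact C (1 / 2 : ℚ) * (∑ p' ∈ idx g, ∑ q' ∈ idx g, term g p' q' (smon g d)) + ∑ p' ∈ (idx g).erase p, term1 g p' (smon g d)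
  · exact add_mem (C_mul_mem g (by norm_num) (sum_mem fun p' _ => sum_mem fun q' _ => term_mem g p' q' hd))
      (sum_mem fun p' _ => term1_mem g p' hd)
  · rw [F_eq, ← Finset.add_sum_erase _ (fun p' => term1 g p' (smon g d)) (valid_mem_idx g hp), term1_eq g hp hv h2 hne]
    abel

/-- the signed coefficient is nonnegative on the cone -/
theorem cone_coeff_nonneg {P : RelRing g} (hP : P ∈ cone g) {d : Var g →₀ ℕ} (hd : d none = 0) :
    0 ≤ (-1 : ℚ) ^ d.degree * coeff d P := by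
  classical
  induction hP using AddSubmonoid.closure_induction with
  | mem x hx =>
    rcases hx with ⟨r, hr, e, he, rfl⟩ | ⟨Q, rfl⟩
    · rw [coeff_C_mul, smon, coeff_monomial]
      split_ifs with h
      · subst h; rw [mul_left_comm, ← pow_add, (Even.add_self e.degree).neg_one_pow, mul_one]; exact hr
      · simp
    · rw [coeff_X_mul', if_neg (by rw [Finsupp.mem_support_iff]; simpa using hd), mul_zero]
  | zero => simp
  | add x y _ _ hx hy => rw [coeff_add, mul_add]; exact add_nonneg hx hy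

theorem Above.coeff_ne_zero {d : Var g →₀ ℕ} {P : RelRing g} (h : Above g d P) (hd : d none = 0) : coeff d P ≠ 0 := by
  classical
  obtain ⟨r, hr, R, hR, rfl⟩ := h
  intro h0
  have h1 := cone_coeff_nonneg g hR hd
  rw [coeff_add, coeff_C_mul, smon, coeff_monomial, if_pos rfl] at h0
  have h3 : (-1 : ℚ) ^ d.degree * (-1) ^ d.degree = 1 := by rw [← pow_add, (Even.add_self d.degree).neg_one_pow]
  have h2 : (-1 : ℚ) ^ d.degree * coeff d R = -r := by
    linear_combination ((-1 : ℚ) ^ d.degree) * h0 - r * h3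
  linarith

theorem valid_of (a b : ℕ) (h1 : a ≤ b + 2) (h2 : b + 2 ≤ 2 * g) (h3 : Even (a + b)) (h4 : b ≠ 0) : Valid g (a, b) :=
  ⟨h1, h2, h3, fun h => h4 (congrArg Prod.snd h)⟩

/-- the coefficient of `x(0,2i)` in the iterate -/
theorem coeff_ne_zero_main {i : ℕ} (hi : 1 ≤ i) (hig : i + 1 ≤ g) :
    coeff (Finsupp.single (some ⟨(0, 2 * i), valid_of g 0 (2 * i) (by omega) (by omega) ⟨i, by omega⟩ (by omega)⟩) 1)
      ((F g)^[3 * i] (monomial (Finsupp.single (some ⟨(3, 1), valid_of g 3 1 (by omega) (by omega) ⟨2, rfl⟩ one_ne_zero⟩) (2 * i)) 1)) ≠ 0 := by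
  classical
  set v31 : Var g := some ⟨(3, 1), valid_of g 3 1 (by omega) (by omega) ⟨2, rfl⟩ one_ne_zero⟩
  let vm : ∀ t, t + 1 ≤ 2 * i → Var g := fun t ht => some ⟨(t + 3, t + 1), valid_of g _ _ (by omega) (by omega) ⟨t + 2, by omega⟩ (by omega)⟩
  let vs : ∀ r, r ≤ i + 1 → Var g := fun r hr => some ⟨(2 * r, 2 * i), valid_of g _ _ (by omega) (by omega) ⟨r + i, by omega⟩ (by omega)⟩
  set P := (monomial (Finsupp.single v31 (2 * i)) (1 : ℚ) : RelRing g)
  have merge : ∀ t (ht : t + 1 ≤ 2 * i), Above g (Finsupp.single v31 (2 * i - 1 - t) + Finsupp.single (vm t ht) 1) ((F g)^[t] P) := by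
    intro t
    induction t with
    | zero =>
      intro ht
      refine ⟨1, one_pos, 0, zero_mem _, ?_⟩
      have : Finsupp.single v31 (2 * i - 1 - 0) + Finsupp.single (vm 0 ht) 1 = Finsupp.single v31 (2 * i) := by
        rw [show vm 0 ht = v31 from rfl, ← Finsupp.single_add]; congr 1; omega
      rw [this, Function.iterate_zero_apply, map_one, one_mul, add_zero, smon, Finsupp.degree_single,
        (even_two_mul i).neg_one_pow]
    | succ t ih =>
      intro ht
      rw [Function.iterate_succ_apply']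
      refine (ih (by omega)).F_step g ?_
      set dd := Finsupp.single v31 (2 * i - 1 - t) + Finsupp.single (vm t (by omega)) 1
      have hq : Valid g (t + 3, t + 1) := valid_of g _ _ (by omega) (by omega) ⟨t + 2, by omega⟩ (by omega)
      have hp : Valid g (3, 1) := valid_of g 3 1 (by omega) (by omega) ⟨2, rfl⟩ one_ne_zero
      have hv : Valid g (3 + (t + 3) - 2, 1 + (t + 1)) := valid_of g _ _ (by omega) (by omega) ⟨t + 3, by omega⟩ (by omega)
      have hgood : Good g dd := good_add_single g (⟨by simp [v31], fun p hp' => by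
        obtain rfl : p = ⟨(3, 1), hp⟩ := by
          by_contra h
          simp [v31, Finsupp.single_apply, Option.some.injEq, Ne.symm h] at hp'
        simp⟩) (by simp)
      have h1 : dd (some ⟨(t + 3, t + 1), hq⟩) ≠ 0 := by simp [dd, vm]
      have hd1 : dd - Finsupp.single (some ⟨(t + 3, t + 1), hq⟩) 1 = Finsupp.single v31 (2 * i - 1 - t) := add_tsub_cancel_right _ _
      have h3 := above_merge g (p := (3, 1)) (q := (t + 3, t + 1)) hp hq hv (by omega) (by
        unfold mergeCoeff; rw [if_neg (by omega)]; exact (Nat.choose_pos (by omega)).ne') hgood h1 (by rw [hd1]; simp [v31]; omega)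
      rw [hd1] at h3
      convert h3 using 2
      · rw [show v31 = some ⟨(3, 1), hp⟩ from rfl, ← Finsupp.single_tsub]; all_goals (congr 1; all_goals omega)
      · congr 1
        refine congrArg some (Subtype.ext (Prod.ext ?_ ?_)) <;> simp only <;> omega
  have shift : ∀ k (hk : k ≤ i + 1), Above g (Finsupp.single (vs (i + 1 - k) (by omega)) 1) ((F g)^[2 * i - 1 + k] P) := by
    intro k
    induction k with
    | zero =>
      intro _
      have h0 := merge (2 * i - 1) (by omega)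
      rw [show 2 * i - 1 - (2 * i - 1) = 0 by omega, Finsupp.single_zero, zero_add] at h0
      convert h0 using 3
      · refine congrArg some (Subtype.ext (Prod.ext ?_ ?_)) <;> simp only <;> omega
      all_goals rfl
    | succ k ih =>
      intro hk
      rw [show 2 * i - 1 + (k + 1) = 2 * i - 1 + k + 1 by omega, Function.iterate_succ_apply']
      refine (ih (by omega)).F_step g ?_
      have hp : Valid g (2 * (i + 1 - k), 2 * i) := valid_of g _ _ (by omega) (by omega) ⟨(i + 1 - k) + i, by omega⟩ (by omega)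
      have hv : Valid g (2 * (i + 1 - k) - 2, 2 * i) := valid_of g _ _ (by omega) (by omega) ⟨(i - k) + i, by omega⟩ (by omega)
      have hgood : Good g (Finsupp.single (vs (i + 1 - k) (by omega)) 1) := by
        have := good_add_single g (d := 0) ⟨rfl, fun p hp' => absurd rfl hp'⟩ (p := ⟨_, hp⟩) (by simp only; omega)
        rwa [zero_add] at this
      have h3 := above_shift g hp hv (by simp only; omega) hgood (by simp [vs])
      convert h3 using 2
      rw [show vs (i + 1 - k) (by omega) = some ⟨_, hp⟩ from rfl, tsub_self, zero_add]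
      congr 1
      refine congrArg some (Subtype.ext (Prod.ext ?_ ?_)) <;> simp only <;> omega
  have h := shift (i + 1) le_rfl
  rw [show 2 * i - 1 + (i + 1) = 3 * i by omega] at h
  have h' := h.coeff_ne_zero g (by simp [vs])
  simp only [vs, Nat.sub_self, Nat.mul_zero] at h'
  exact h'

end Groth.Agent.Taut52
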